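import Groth.Agent.Lib.KoszulTensor.Split
import Groth.Agent.Lib.KoszulFwd
import Groth.Agent.Lib.DCxKFlat.Balance
import Groth.Prelude.Def_LCI2
import Mathlib.LinearAlgebra.TensorProduct.Pi
import Mathlib.RingTheory.LocalRing.Module
import Mathlib.Data.Nat.Choose.Vandermonde

/-!
# The Koszul homology of a redundant generating sequence of a complete intersection ideal
-/

set_option autoImplicit false
set_option linter.style.haveILetI false
universe u

open CategoryTheory CategoryTheory.Limits MonoidalCategory TensorProduct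

namespace GrothLib.SmoothTor3

variable {B : Type u} [CommRing B]

/-- `H^0` of a Koszul complex. -/
theorem nonempty_koszul_zero (l : List B) :
    Nonempty ((Koszul.koszul B l).homology 0 ≅ ModuleCat.of B (B ⧸ Ideal.span {a | a ∈ l})) := by
  obtain ⟨e⟩ := GrothLib.KoszulFwd.nonempty_homology_zero_iso (LinearMap.id : Module.Dual B B) l
  rw [show GrothLib.KoszulColon.kc (LinearMap.id : Module.Dual B B) l = Koszul.koszul B l from
    congrArg _ (List.map_id l)] at e
  rw [show l.map (LinearMap.id : Module.Dual B B) = l from List.map_id l] at e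
  exact ⟨e⟩

variable [IsLocalRing B]

theorem finrank_tensor_pi (ι : Type) [Fintype ι] (M : ι → Type u) [∀ k, AddCommGroup (M k)]
    [∀ k, Module B (M k)] [∀ k, Module.Finite B (M k)] :
    Module.finrank (IsLocalRing.ResidueField B) (IsLocalRing.ResidueField B ⊗[B] ((k : ι) → M k)) =
      ∑ k, Module.finrank (IsLocalRing.ResidueField B) (IsLocalRing.ResidueField B ⊗[B] M k) := by
  classical
  rw [(TensorProduct.piRight B (IsLocalRing.ResidueField B) (IsLocalRing.ResidueField B) M).finrank_eq,
    Module.finrank_pi_fintype]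

/-- A retract of a free module over `B ⧸ I` is free over `B ⧸ I`. -/
theorem nonempty_free_of_retract (I : Ideal B) {ι : Type} [Finite ι] {X : Type u} [AddCommGroup X] [Module B X]
    (i : X →ₗ[B] (ι → B ⧸ I)) (r : (ι → B ⧸ I) →ₗ[B] X) (hri : r.comp i = LinearMap.id) :
    Nonempty (X ≃ₗ[B] (Fin (Module.finrank (IsLocalRing.ResidueField B) (IsLocalRing.ResidueField B ⊗[B] X)) → B ⧸ I)) := by
  classical
  haveI := Fintype.ofFinite ι
  let κ := IsLocalRing.ResidueField B
  haveI : Module.Finite B X := Module.Finite.of_surjective r fun x => ⟨i x, LinearMap.congr_fun hri x⟩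
  let bb := Module.finBasis κ (κ ⊗[B] X)
  have hsurj : Function.Surjective (TensorProduct.mk B κ X 1) :=
    TensorProduct.mk_surjective B X κ IsLocalRing.residue_surjective
  choose x hx using fun k => hsurj (bb k)
  have hkill : ∀ y : X, ∀ a ∈ I, a • y = 0 := fun y a ha => by
    have h1 : a • i y = 0 := funext fun t => by
      obtain ⟨c, hc⟩ := Ideal.Quotient.mk_surjective (i y t)
      rw [Pi.smul_apply, ← hc, Algebra.smul_def, Ideal.Quotient.algebraMap_eq, ← map_mul]
      exact Ideal.Quotient.eq_zero_iff_mem.2 (I.mul_mem_right c ha)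
    rw [show y = r (i y) from (LinearMap.congr_fun hri y).symm, ← map_smul, h1, map_zero]
  let cm : X → ((B ⧸ I) →ₗ[B] X) := fun y => Submodule.liftQ I (LinearMap.toSpanSingleton B X y) fun a ha => hkill y a ha
  let φ : (Fin (Module.finrank κ (κ ⊗[B] X)) → B ⧸ I) →ₗ[B] X :=
    ∑ k, (cm (x k)).comp (LinearMap.proj k)
  have hφ1 : ∀ k, φ (Pi.single k 1) = x k := fun k => by
    simp only [φ, LinearMap.sum_apply, LinearMap.comp_apply, LinearMap.proj_apply]
    rw [Finset.sum_eq_single k]
    · rw [Pi.single_eq_same]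
      exact one_smul B (x k)
    · intro l _ hl
      rw [Pi.single_eq_of_ne hl, map_zero]
    · simp
  have hφ : Function.Surjective φ := by
    rw [← LinearMap.range_eq_top, ← top_le_iff, ← IsLocalRing.span_eq_top_of_tmul_eq_basis (R := B) x bb hx,
      Submodule.span_le]
    rintro _ ⟨k, rfl⟩
    exact ⟨_, hφ1 k⟩
  choose pre hpre using fun t : ι => hφ (r (Pi.single t 1))
  let cF : (Fin (Module.finrank κ (κ ⊗[B] X)) → B ⧸ I) → ((B ⧸ I) →ₗ[B] (Fin (Module.finrank κ (κ ⊗[B] X)) → B ⧸ I)) :=
    fun v => LinearMap.pi fun k => (LinearMap.mulRight B (v k))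
  let s0 : (ι → B ⧸ I) →ₗ[B] (Fin (Module.finrank κ (κ ⊗[B] X)) → B ⧸ I) :=
    ∑ t, (cF (pre t)).comp (LinearMap.proj t)
  have hs0 : φ.comp s0 = r := by
    refine LinearMap.pi_ext fun t c => ?_
    obtain ⟨c, rfl⟩ := Ideal.Quotient.mk_surjective c
    have e1 : (Pi.single t (Ideal.Quotient.mk I c) : ι → B ⧸ I) = c • Pi.single t 1 := by
      rw [← Pi.single_smul, Algebra.smul_def, mul_one]
      rfl
    rw [e1, map_smul, map_smul, LinearMap.comp_apply]
    refine congrArg (c • ·) ?_
    rw [← hpre]
    refine congrArg φ ?_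
    simp only [s0, LinearMap.sum_apply, LinearMap.comp_apply, LinearMap.proj_apply]
    rw [Finset.sum_eq_single t]
    · rw [Pi.single_eq_same]
      funext k
      exact one_mul _
    · intro l _ hl
      rw [Pi.single_eq_of_ne hl, map_zero]
    · simp
  let s := s0.comp i
  have hs : φ.comp s = LinearMap.id := by rw [← LinearMap.comp_assoc, hs0, hri]
  let K := LinearMap.ker φ
  haveI : Module.Finite B K := Module.Finite.of_surjective
    ((LinearMap.id - s.comp φ).codRestrict K fun z => by
      rw [LinearMap.mem_ker, LinearMap.sub_apply, map_sub, LinearMap.id_apply, LinearMap.comp_apply,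
        ← LinearMap.comp_apply φ s, hs, LinearMap.id_apply, sub_self])
    fun ⟨z, hz⟩ => ⟨z, Subtype.ext (by
      rw [LinearMap.codRestrict_apply, LinearMap.sub_apply, LinearMap.id_apply, LinearMap.comp_apply,
        LinearMap.mem_ker.1 hz, map_zero, sub_zero])⟩
  let e : (Fin (Module.finrank κ (κ ⊗[B] X)) → B ⧸ I) ≃ₗ[B] X × K :=
    LinearEquiv.ofLinear (φ.prod ((LinearMap.id - s.comp φ).codRestrict K fun z => by
      rw [LinearMap.mem_ker, LinearMap.sub_apply, map_sub, LinearMap.id_apply, LinearMap.comp_apply,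
        ← LinearMap.comp_apply φ s, hs, LinearMap.id_apply, sub_self]))
      (s.coprod K.subtype) (by
        refine LinearMap.ext fun ⟨y, z, hz⟩ => ?_
        have h1 : φ (s y) = y := LinearMap.congr_fun hs y
        have h2 : φ z = 0 := hz
        refine Prod.ext ?_ (Subtype.ext ?_)
        · simp [h1, h2]
        · simp [h1, h2]) (by
        refine LinearMap.ext fun v => ?_
        simp)
  have hK : Subsingleton (κ ⊗[B] K) := by
    have h1 := ((TensorProduct.AlgebraTensorModule.congr (LinearEquiv.refl κ κ) e).trans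
      (TensorProduct.prodRight B κ κ X K)).finrank_eq
    rw [finrank_tensor_pi, Module.finrank_prod] at h1
    have h2 : Module.finrank κ (κ ⊗[B] (B ⧸ I)) ≤ 1 := by
      have hs' : Function.Surjective ((Algebra.linearMap B (B ⧸ I)).baseChange κ) :=
        LinearMap.lTensor_surjective κ Ideal.Quotient.mk_surjective
      refine (LinearMap.finrank_le_finrank_of_surjective hs').trans ?_
      rw [Module.finrank_baseChange, Module.finrank_self]
    rw [Finset.sum_const, Finset.card_univ, Fintype.card_fin, smul_eq_mul] at h1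
    have h3 : Module.finrank κ (κ ⊗[B] X) * Module.finrank κ (κ ⊗[B] (B ⧸ I)) ≤ Module.finrank κ (κ ⊗[B] X) :=
      (Nat.mul_le_mul_left _ h2).trans_eq (mul_one _)
    have h4 : Module.finrank κ (κ ⊗[B] X) * Module.finrank κ (κ ⊗[B] (B ⧸ I)) =
        Module.finrank κ (κ ⊗[B] X) + Module.finrank κ (κ ⊗[B] K) := h1
    exact (Module.finrank_zero_iff (R := κ)).1 (by omega)
  have hK0 : Subsingleton K := (IsLocalRing.subsingleton_tensorProduct (R := B) (M := K)).1 hK
  exact ⟨(LinearEquiv.ofBijective φ ⟨LinearMap.ker_eq_bot.1 (Submodule.subsingleton_iff_eq_bot.1 hK0), hφ⟩).symm⟩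

theorem finrank_tensor_quotient {I : Ideal B} (hI : I ≤ IsLocalRing.maximalIdeal B) :
    Module.finrank (IsLocalRing.ResidueField B) (IsLocalRing.ResidueField B ⊗[B] (B ⧸ I)) = 1 := by
  let κ := IsLocalRing.ResidueField B
  refine le_antisymm ?_ ?_
  · have hs' : Function.Surjective ((Algebra.linearMap B (B ⧸ I)).baseChange κ) :=
      LinearMap.lTensor_surjective κ Ideal.Quotient.mk_surjective
    refine (LinearMap.finrank_le_finrank_of_surjective hs').trans ?_
    rw [Module.finrank_baseChange, Module.finrank_self]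
  · refine Nat.one_le_iff_ne_zero.2 fun h => ?_
    haveI : Subsingleton (κ ⊗[B] (B ⧸ I)) := (Module.finrank_zero_iff (R := κ)).1 h
    haveI := (IsLocalRing.subsingleton_tensorProduct (R := B) (M := B ⧸ I)).1 this
    exact Ideal.Quotient.subsingleton_iff.not.2 (fun hI' => (IsLocalRing.maximalIdeal.isMaximal B).ne_top
      (top_le_iff.1 (hI' ▸ hI))) ‹_›

variable (F g : List B) (hg : LCI.IsKoszulRegularSeq B g) (hspan : Ideal.span {a | a ∈ F} = Ideal.span {a | a ∈ g})

/-- Homology after adjoining the unit object. -/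
noncomputable def unitHom (l : List B) (m : ℤ) :
    (DRing.tensorCx (Koszul.koszul B l) (ModuleCat.of B B)).homology m ≅ (Koszul.koszul B l).homology m :=
  (HomologicalComplex.homologyFunctor _ _ m).mapIso (GrothLib.KF.tensorCxUnitIso _)

include hg hspan in
theorem nonempty_big (m : ℤ) :
    Nonempty ((Koszul.koszul B (F ++ g)).homology m ≅ ModuleCat.of B
      (Fin (if m ≤ 0 then F.length.choose (-m).toNat else 0) → B ⧸ Ideal.span {a | a ∈ F})) := by
  obtain ⟨s⟩ := GrothLib.KoszulTensor.nonempty_swap F g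
  obtain ⟨e⟩ := GrothLib.KoszulTensor.nonempty_homology_append (ModuleCat.of B B) g F
    (fun y hy => hspan ▸ Ideal.subset_span hy) m
  obtain ⟨z⟩ := nonempty_koszul_zero g
  rw [← hspan] at z
  have hsub : ∀ i : ℤ, i ≠ 0 → Subsingleton ↥((DRing.tensorCx (Koszul.koszul B g) (ModuleCat.of B B)).homology i) :=
    fun i hi => ModuleCat.subsingleton_of_isZero ((hg i hi).of_iso (unitHom g i))
  refine ⟨(HomologicalComplex.homologyFunctor _ _ m).mapIso s ≪≫ (unitHom _ m).symm ≪≫ e ≪≫ LinearEquiv.toModuleIso ?_⟩
  by_cases hm : m ≤ 0 ∧ (-m).toNat ≤ F.length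
  · obtain ⟨hm0, hmN⟩ := hm
    have key : ∀ j : Fin (F.length + 1), m + (j : ℕ) = 0 ↔ j = ⟨(-m).toNat, by omega⟩ := fun j => by
      rw [Fin.ext_iff]; dsimp only; omega
    suffices e2 : (Fin (F.length.choose (-m).toNat) →
        ↥((DRing.tensorCx (Koszul.koszul B g) (ModuleCat.of B B)).homology (m + (((-m).toNat : ℕ) : ℤ)))) ≃ₗ[B]
        (Fin (if m ≤ 0 then F.length.choose (-m).toNat else 0) → B ⧸ Ideal.span {a | a ∈ F}) by
      suffices hbij : Function.Bijective (LinearMap.proj (R := B) (⟨(-m).toNat, by omega⟩ : Fin (F.length + 1))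
      (φ := fun j : Fin (F.length + 1) => Fin (F.length.choose j) →
        ↥((DRing.tensorCx (Koszul.koszul B g) (ModuleCat.of B B)).homology (m + j)))) by
        exact (LinearEquiv.ofBijective _ hbij).trans e2
      refine ⟨?_, ?_⟩
      · intro v w h
        funext j
        by_cases hj : j = ⟨(-m).toNat, by omega⟩
        · subst hj; exact h
        · haveI := hsub (m + (j : ℕ)) (fun h0 => hj ((key j).1 h0))
          exact Subsingleton.elim _ _
      · intro w
        classical
        exact ⟨Pi.single _ w, Pi.single_eq_same _ _⟩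
    rw [if_pos hm0]
    exact LinearEquiv.piCongrRight fun _ =>
        ((eqToIso (congrArg (fun i => (DRing.tensorCx (Koszul.koszul B g) (ModuleCat.of B B)).homology i)
          (show m + (((-m).toNat : ℕ) : ℤ) = 0 by omega))) ≪≫ unitHom g 0 ≪≫ z).toLinearEquiv
  · have h0 : (if m ≤ 0 then F.length.choose (-m).toNat else 0) = 0 := by
      split_ifs with h
      · exact Nat.choose_eq_zero_of_lt (by omega)
      · rfl
    haveI : ∀ j : Fin (F.length + 1),
        Subsingleton ↥((DRing.tensorCx (Koszul.koszul B g) (ModuleCat.of B B)).homology (m + j)) := fun j =>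
      hsub _ (by have := j.isLt; omega)
    haveI : IsEmpty (Fin (if m ≤ 0 then F.length.choose (-m).toNat else 0)) := by rw [h0]; infer_instance
    exact LinearEquiv.ofSubsingleton _ _

include hg hspan in
/-- The Koszul homology of `F` is free over the quotient, of binomial rank. -/
theorem nonempty_homology_free (hI : Ideal.span {a | a ∈ F} ≤ IsLocalRing.maximalIdeal B)
    (hle : g.length ≤ F.length) (q : ℕ) :
    Nonempty ((Koszul.koszul B F).homology (-(q : ℤ)) ≅ ModuleCat.of B
      (Fin ((F.length - g.length).choose q) → B ⧸ Ideal.span {a | a ∈ F})) := by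
  classical
  let I := Ideal.span {a | a ∈ F}
  let κ := IsLocalRing.ResidueField B
  let X : ℤ → ModuleCat.{u} B := fun i => (DRing.tensorCx (Koszul.koszul B F) (ModuleCat.of B B)).homology i
  have hb : ∀ m : ℤ, Nonempty (((j : Fin (g.length + 1)) → Fin (g.length.choose j) → X (m + j)) ≃ₗ[B]
      (Fin (if m ≤ 0 then F.length.choose (-m).toNat else 0) → B ⧸ I)) := fun m => by
    obtain ⟨e⟩ := GrothLib.KoszulTensor.nonempty_homology_append (ModuleCat.of B B) F g
      (fun y hy => hspan ▸ Ideal.subset_span hy) m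
    obtain ⟨e'⟩ := nonempty_big F g hg hspan m
    exact ⟨(e.symm ≪≫ unitHom _ m ≪≫ e').toLinearEquiv⟩
  have hfree : ∀ m : ℤ, Module.Finite B (X m) ∧
      Nonempty (X m ≃ₗ[B] (Fin (Module.finrank κ (κ ⊗[B] X m)) → B ⧸ I)) := fun m => by
    obtain ⟨e⟩ := hb m
    have hX : X (m + ((0 : Fin (g.length + 1)) : ℕ)) = X m := congrArg X (by simp)
    let c : X (m + ((0 : Fin (g.length + 1)) : ℕ)) ≃ₗ[B] X m := (eqToIso hX).toLinearEquiv
    have hc0 : g.length.choose ((0 : Fin (g.length + 1)) : ℕ) = 1 := by simp
    let i : X m →ₗ[B] (Fin _ → B ⧸ I) := e.toLinearMap ∘ₗ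
      LinearMap.single B (fun j : Fin (g.length + 1) => Fin (g.length.choose j) → X (m + j)) 0 ∘ₗ
        LinearMap.pi fun _ => c.symm.toLinearMap
    let r : (Fin _ → B ⧸ I) →ₗ[B] X m := c.toLinearMap ∘ₗ
      LinearMap.proj (φ := fun _ : Fin (g.length.choose ((0 : Fin (g.length + 1)) : ℕ)) => X (m + ((0 : Fin (g.length + 1)) : ℕ)))
        ⟨0, by omega⟩ ∘ₗ LinearMap.proj 0 ∘ₗ e.symm.toLinearMap
    have hri : r.comp i = LinearMap.id := by
      refine LinearMap.ext fun y => ?_
      simp only [r, i, LinearMap.comp_apply, LinearEquiv.coe_coe, LinearEquiv.symm_apply_apply, LinearMap.id_apply]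
      rw [LinearMap.proj_apply, LinearMap.proj_apply, LinearMap.single_apply, Pi.single_eq_same,
        LinearMap.pi_apply]
      exact c.apply_symm_apply y
    exact ⟨Module.Finite.of_surjective r fun y => ⟨i y, LinearMap.congr_fun hri y⟩, nonempty_free_of_retract I i r hri⟩
  let h : ℤ → ℕ := fun m => Module.finrank κ (κ ⊗[B] X m)
  haveI := fun m => (hfree m).1
  have heq : ∀ m : ℤ, ∑ j : Fin (g.length + 1), g.length.choose j * h (m + j) =
      if m ≤ 0 then F.length.choose (-m).toNat else 0 := fun m => by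
    obtain ⟨e⟩ := hb m
    have h1 := (TensorProduct.AlgebraTensorModule.congr (LinearEquiv.refl κ κ) e).finrank_eq
    rw [finrank_tensor_pi, finrank_tensor_pi] at h1
    simp only [finrank_tensor_pi, Finset.sum_const, Finset.card_univ, Fintype.card_fin, smul_eq_mul,
      finrank_tensor_quotient hI] at h1
    rw [h1, finrank_tensor_quotient hI, mul_one]
  have hneg : ∀ m : ℤ, 0 < m → h m = 0 := fun m hm => by
    have h1 := heq m
    rw [if_neg (not_le.2 hm), Finset.sum_eq_zero_iff] at h1
    simpa using h1 0 (Finset.mem_univ _)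
  have main : ∀ n : ℕ, h (-(n : ℤ)) = (F.length - g.length).choose n := by
    intro n
    induction n using Nat.strong_induction_on with
    | _ n ih =>
      have h1 := heq (-(n : ℤ))
      rw [if_pos (by omega), neg_neg, Int.toNat_natCast] at h1
      conv_rhs at h1 => rw [← Nat.add_sub_cancel' hle, Nat.add_choose_eq]
      rw [Finset.Nat.sum_antidiagonal_eq_sum_range_succ fun a b => g.length.choose a * (F.length - g.length).choose b] at h1
      have hL : ∑ j : Fin (g.length + 1), g.length.choose j * h (-(n : ℤ) + j) =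
          ∑ j ∈ Finset.range (n + 1), g.length.choose j * h (-(n : ℤ) + j) := by
        rw [Fin.sum_univ_eq_sum_range (fun j => g.length.choose j * h (-(n : ℤ) + j))]
        refine (Finset.sum_subset (Finset.range_mono (Nat.le_max_left (g.length + 1) (n + 1))) fun j _ hj => ?_).trans
          (Finset.sum_subset (Finset.range_mono (Nat.le_max_right (g.length + 1) (n + 1))) fun j _ hj => ?_).symm
        · rw [Nat.choose_eq_zero_of_lt (by simpa using hj), zero_mul]
        · rw [hneg _ (by simp at hj; omega), mul_zero]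
      rw [hL, Finset.sum_range_succ' _ n, Finset.sum_range_succ' _ n] at h1
      have hsame : ∀ j ∈ Finset.range n, g.length.choose (j + 1) * h (-(n : ℤ) + ((j + 1 : ℕ) : ℤ)) =
          g.length.choose (j + 1) * (F.length - g.length).choose (n - (j + 1)) := fun j hj => by
        rw [← ih (n - (j + 1)) (by simp at hj; omega)]
        congr 2
        simp at hj
        omega
      rw [Finset.sum_congr rfl hsame] at h1
      simpa using h1
  obtain ⟨e⟩ := (hfree (-(q : ℤ))).2
  refine ⟨(unitHom F _).symm ≪≫ LinearEquiv.toModuleIso (e.trans (LinearEquiv.funCongrLeft B _ (finCongr (main q)).symm))⟩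

end GrothLib.SmoothTor3
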