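import Groth.Agent.Lib.SmoothTor3.Local
import Groth.Agent.Lib.DTen.Values
import Groth.Agent.Lib.DCxRing.TorLocalMax
import Groth.Agent.Lib.DualCx22.Pointwise
import Groth.Agent.Lib.KoszulTensor.Basic

/-!
# The triple derived tensor product of quotients, locally
-/

set_option autoImplicit false
set_option linter.style.haveILetI false
universe u

open CategoryTheory CategoryTheory.Limits MonoidalCategory TensorProduct
open GrothLib.DualCx22 (bcMod bcD)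

attribute [local instance] HasDerivedCategory.standard

namespace GrothLib.SmoothTor3

variable {A : Type u} [CommRing A] (p : Ideal A) [p.IsPrime]

/-- Koszul complexes are K-flat. -/
theorem isKFlat_koszul {B : Type u} [CommRing B] (l : List B) : KF.IsKFlat (Koszul.koszul B l : DRing.Cx B) := by
  have h : GrothLib.KoszulColon.kc (LinearMap.id : Module.Dual B B) l = Koszul.koszul B l :=
    congrArg _ (List.map_id l)
  rw [← h]
  refine KF.isKFlat_of_vanishesAbove (b := 0) (fun i hi => GrothLib.KoszulColon.isZero_out _ l i (Or.inl hi)) fun i => ?_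
  haveI := GrothLib.KoszulColon.free_kc (LinearMap.id : Module.Dual B B) l i
  infer_instance

/-- The localized triple `Tor` is Koszul homology. -/
theorem nonempty_loc_tor3 [DTen.HasLTen₃ A] (I₁ I₂ I₃ : Ideal A) (f₁ f₂ f₃ : List (Localization.AtPrime p))
    (h₁ : LCI.IsKoszulRegularSeq (Localization.AtPrime p) f₁)
    (s₁ : Ideal.span {a | a ∈ f₁} = I₁.map (algebraMap A (Localization.AtPrime p)))
    (h₂ : LCI.IsKoszulRegularSeq (Localization.AtPrime p) f₂)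
    (s₂ : Ideal.span {a | a ∈ f₂} = I₂.map (algebraMap A (Localization.AtPrime p)))
    (h₃ : LCI.IsKoszulRegularSeq (Localization.AtPrime p) f₃)
    (s₃ : Ideal.span {a | a ∈ f₃} = I₃.map (algebraMap A (Localization.AtPrime p))) (n : ℤ) :
    Nonempty (Localization.AtPrime p ⊗[A]
        Dual.HD A ((DTen.LTen₃ A).obj (Dual.inD A (A ⧸ I₁), (Dual.inD A (A ⧸ I₂), Dual.inD A (A ⧸ I₃)))) n
      ≃ₗ[Localization.AtPrime p] (Koszul.koszul (Localization.AtPrime p) (f₁ ++ (f₂ ++ f₃))).homology n) := by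
  let B := Localization.AtPrime p
  let φ := algebraMap A B
  haveI : Module.Flat A B := IsLocalization.flat _ p.primeCompl
  haveI hpfl : PreservesFiniteLimits (bcMod (A := A) B) :=
    GrothLib.DR.preservesFiniteLimits_extendScalars (algebraMap A B) GrothLib.DR.flat_algebraMap
  haveI : DTen.HasLTen₃ B := GrothLib.DT.hasLTen₃ B
  let P₁ := (projectiveResolution (ModuleCat.of A (A ⧸ I₁))).cochainComplex
  let P₂ := (projectiveResolution (ModuleCat.of A (A ⧸ I₂))).cochainComplex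
  let P₃ := (projectiveResolution (ModuleCat.of A (A ⧸ I₃))).cochainComplex
  obtain ⟨e₁⟩ := KF.nonempty_resolution_iso (projectiveResolution (ModuleCat.of A (A ⧸ I₁)))
  obtain ⟨e₂⟩ := KF.nonempty_resolution_iso (projectiveResolution (ModuleCat.of A (A ⧸ I₂)))
  obtain ⟨e₃⟩ := KF.nonempty_resolution_iso (projectiveResolution (ModuleCat.of A (A ⧸ I₃)))
  have hP : ∀ {M : ModuleCat.{u} A} (P : ProjectiveResolution M), KF.IsKFlat P.cochainComplex :=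
    fun P => KF.isKFlat_cochainComplex P
  haveI := GrothLib.DT.isIso_ε₃ (hP (projectiveResolution (ModuleCat.of A (A ⧸ I₁))))
    (hP (projectiveResolution (ModuleCat.of A (A ⧸ I₂)))) P₃
  let eA : (DTen.LTen₃ A).obj (Dual.inD A (A ⧸ I₁), (Dual.inD A (A ⧸ I₂), Dual.inD A (A ⧸ I₃))) ≅
      DRing.toD (P₁ ⊗ (P₂ ⊗ P₃) : DRing.Cx A) :=
    (DTen.LTen₃ A).mapIso (Iso.prod e₁.symm (Iso.prod e₂.symm e₃.symm)) ≪≫
      asIso ((DTen.ε₃ A).app (P₁, (P₂, P₃)))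
  have piece : ∀ (I : Ideal A) (P : DRing.Cx A) (_ : DRing.toD P ≅ Dual.inD A (A ⧸ I)) (f : List B),
      LCI.IsKoszulRegularSeq B f → Ideal.span {a | a ∈ f} = I.map (algebraMap A B) →
      Nonempty (DRing.toD ((DR.bc φ).obj P) ≅ DRing.toD (Koszul.koszul B f : DRing.Cx B)) := by
    intro I P e f hf hs
    obtain ⟨e'⟩ := GrothLib.DualCx22.nonempty_bcD_inD (A := A) B (A ⧸ I)
    obtain ⟨eK⟩ := nonempty_koszul_iso_inD f hf
    let l : B ⊗[A] (A ⧸ I) ≃ₗ[B] B ⧸ Ideal.span {a | a ∈ f} :=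
      (Algebra.TensorProduct.quotIdealMapEquivTensorQuot B I).toLinearEquiv.symm.trans
        (Submodule.quotEquivOfEq _ _ hs.symm)
    exact ⟨((bcMod (A := A) B).mapDerivedCategoryFactors.app P).symm ≪≫ (bcD B).mapIso e ≪≫ e' ≪≫
      (DerivedCategory.singleFunctor (ModuleCat.{u} B) 0).mapIso l.toModuleIso ≪≫ eK.symm⟩
  obtain ⟨k₁⟩ := piece I₁ P₁ e₁ f₁ h₁ s₁
  obtain ⟨k₂⟩ := piece I₂ P₂ e₂ f₂ h₂ s₂
  obtain ⟨k₃⟩ := piece I₃ P₃ e₃ f₃ h₃ s₃
  haveI := GrothLib.DT.isIso_ε₃ (GrothLib.KF.isKFlat_bc φ (hP (projectiveResolution (ModuleCat.of A (A ⧸ I₁)))))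
    (GrothLib.KF.isKFlat_bc φ (hP (projectiveResolution (ModuleCat.of A (A ⧸ I₂))))) ((DR.bc φ).obj P₃)
  haveI := GrothLib.DT.isIso_ε₃ (isKFlat_koszul f₁) (isKFlat_koszul f₂) (Koszul.koszul B f₃ : DRing.Cx B)
  obtain ⟨t₂₃⟩ := GrothLib.KoszulTensor.nonempty_iso B f₃ f₂
  obtain ⟨t₁⟩ := GrothLib.KoszulTensor.nonempty_iso B (f₂ ++ f₃) f₁
  let c : (DR.bc φ).obj (P₁ ⊗ (P₂ ⊗ P₃) : DRing.Cx A) ≅
      ((DR.bc φ).obj P₁ ⊗ ((DR.bc φ).obj P₂ ⊗ (DR.bc φ).obj P₃) : DRing.Cx B) :=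
    DR.bcTensorIso φ P₁ (P₂ ⊗ P₃) ≪≫ whiskerLeftIso _ (DR.bcTensorIso φ P₂ P₃)
  let eB : (bcD B).obj ((DTen.LTen₃ A).obj (Dual.inD A (A ⧸ I₁), (Dual.inD A (A ⧸ I₂), Dual.inD A (A ⧸ I₃)))) ≅
      DRing.toD (Koszul.koszul B (f₁ ++ (f₂ ++ f₃)) : DRing.Cx B) :=
    (bcD B).mapIso eA ≪≫ (bcMod (A := A) B).mapDerivedCategoryFactors.app _ ≪≫ DerivedCategory.Q.mapIso c ≪≫
      (asIso ((DTen.ε₃ B).app ((DR.bc φ).obj P₁, ((DR.bc φ).obj P₂, (DR.bc φ).obj P₃)))).symm ≪≫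
      (DTen.LTen₃ B).mapIso (Iso.prod k₁ (Iso.prod k₂ k₃)) ≪≫
      asIso ((DTen.ε₃ B).app ((Koszul.koszul B f₁ : DRing.Cx B),
        ((Koszul.koszul B f₂ : DRing.Cx B), (Koszul.koszul B f₃ : DRing.Cx B)))) ≪≫
      DerivedCategory.Q.mapIso (whiskerLeftIso _ t₂₃ ≪≫ t₁)
  obtain ⟨d⟩ := GrothLib.DualCx22.nonempty_HD_bcD_equiv (A := A) B
    ((DTen.LTen₃ A).obj (Dual.inD A (A ⧸ I₁), (Dual.inD A (A ⧸ I₂), Dual.inD A (A ⧸ I₃)))) n
  exact ⟨d.symm.trans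
    (((DerivedCategory.homologyFunctor (ModuleCat.{u} B) n).mapIso eB) ≪≫
      DR.homologyIso (Koszul.koszul B (f₁ ++ (f₂ ++ f₃)) : DRing.Cx B) n).toLinearEquiv⟩

end GrothLib.SmoothTor3
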