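import Groth.Agent.Lib.SmoothTor3.KoszulFree
import Groth.Agent.Lib.RegLoc.Basic
import Groth.Agent.Lib.GeomReg.Basic
import Groth.Agent.Lib.J2.Criterion
import Groth.Agent.Lib.DCxRing.Homology
import Groth.Agent.Lib.KoszulColon.Regular

/-!
# Smooth quotients of smooth algebras, locally
-/

set_option autoImplicit false
set_option linter.style.haveILetI false
universe u

open CategoryTheory CategoryTheory.Limits IsLocalRing RingTheory.Sequence

attribute [local instance] HasDerivedCategory.standard

namespace GrothLib.SmoothTor3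

/-- Locally, an ideal with smooth quotient in a smooth algebra is generated by a Koszul regular sequence. -/
theorem exists_gens (k : Type u) [Field k] {A : Type u} [CommRing A] [Algebra k A] [Algebra.Smooth k A]
    (p : Ideal A) [p.IsPrime] (I : Ideal A) [Algebra.Smooth k (A ⧸ I)] :
    ∃ f : List (Localization.AtPrime p), LCI.IsKoszulRegularSeq (Localization.AtPrime p) f ∧
      Ideal.span {a | a ∈ f} = I.map (algebraMap A (Localization.AtPrime p)) := by
  classical
  let B := Localization.AtPrime p
  by_cases hI : I ≤ p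
  · haveI : IsRegularRing A := GrothLib.GeomReg.isRegularRing_of_smooth k A
    haveI : IsRegularRing (A ⧸ I) := GrothLib.GeomReg.isRegularRing_of_smooth k (A ⧸ I)
    haveI : IsRegularLocalRing B := (isRegularRing_iff).1 inferInstance p
    haveI hq : (p.map (Ideal.Quotient.mk I)).IsPrime :=
      Ideal.map_isPrime_of_surjective Ideal.Quotient.mk_surjective (by rwa [Ideal.mk_ker])
    obtain ⟨e⟩ := GrothLib.J2.exists_quotient_equiv I p hI
    haveI : IsRegularLocalRing (Localization.AtPrime (p.map (Ideal.Quotient.mk I))) :=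
      (isRegularRing_iff).1 inferInstance _
    haveI : IsRegularLocalRing (B ⧸ I.map (algebraMap A B)) := IsRegularLocalRing.of_ringEquiv e.symm
    obtain ⟨x, c, hc, hx, hIx, -⟩ :=
      GrothLib.RegLoc.exists_generators_quotient _ B rfl (I.map (algebraMap A B))
    have hw0 := GrothLib.RegLoc.isWeaklyRegular_ofFn _ B rfl x hx
    have hw : IsWeaklyRegular B (List.ofFn fun i : Fin c => x (Fin.castLE hc i)) := by
      have h : List.ofFn x = (List.ofFn x).take c ++ (List.ofFn x).drop c := (List.take_append_drop c _).symm
      rw [h, isWeaklyRegular_append_iff] at hw0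
      have e : (List.ofFn x).take c = List.ofFn fun i : Fin c => x (Fin.castLE hc i) := by
        apply List.ext_getElem
        · simpa using hc
        · intro i h1 h2
          simp
      exact e ▸ hw0.1
    refine ⟨_, GrothLib.KoszulFwd.isKoszulRegularSeq_of_isWeaklyRegular _ hw, ?_⟩
    rw [hIx]
    exact congrArg Ideal.span (Set.ext fun a => List.mem_ofFn)
  · obtain ⟨a, haI, hap⟩ := SetLike.not_le_iff_exists.1 hI
    refine ⟨[1], GrothLib.KoszulFwd.isKoszulRegularSeq_of_isWeaklyRegular _
      ((isWeaklyRegular_cons_iff B 1 []).2 ⟨IsSMulRegular.one B, IsWeaklyRegular.nil B _⟩), ?_⟩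
    rw [Ideal.eq_top_of_isUnit_mem (I.map (algebraMap A B)) (Ideal.mem_map_of_mem _ haI)
      (IsLocalization.map_units B (⟨a, hap⟩ : p.primeCompl)), Ideal.eq_top_iff_one]
    exact Ideal.subset_span (by simp)

variable {B : Type u} [CommRing B]

/-- A Koszul regular sequence resolves the quotient by its ideal. -/
theorem nonempty_koszul_iso_inD (f : List B) (hf : LCI.IsKoszulRegularSeq B f) :
    Nonempty (DRing.toD (Koszul.koszul B f) ≅ Dual.inD B (B ⧸ Ideal.span {a | a ∈ f})) := by
  let X := DRing.toD (Koszul.koszul B f)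
  have hz : ∀ i, i ≠ 0 → IsZero ((DerivedCategory.homologyFunctor (ModuleCat.{u} B) i).obj X) := fun i hi =>
    (hf i hi).of_iso (DR.homologyIso (Koszul.koszul B f) i)
  haveI : X.IsGE 0 := by
    rw [DerivedCategory.isGE_iff]
    exact fun i hi => hz i (by omega)
  haveI : X.IsLE 0 := by
    rw [DerivedCategory.isLE_iff]
    exact fun i hi => hz i (by omega)
  obtain ⟨M, ⟨e⟩⟩ := DerivedCategory.exists_iso_singleFunctor_obj_of_isGE_of_isLE X 0
  obtain ⟨e0⟩ := nonempty_koszul_zero f
  exact ⟨e ≪≫ (DerivedCategory.singleFunctor (ModuleCat.{u} B) 0).mapIso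
    (((DerivedCategory.singleFunctorCompHomologyFunctorIso (ModuleCat.{u} B) 0).app M).symm ≪≫
      (DerivedCategory.homologyFunctor (ModuleCat.{u} B) 0).mapIso e.symm ≪≫
        DR.homologyIso (Koszul.koszul B f) 0 ≪≫ e0)⟩

/-- The Koszul homology of a sequence generating the unit ideal vanishes. -/
theorem isZero_koszul_homology_of_span_eq_top (l : List B) (h : Ideal.span {a | a ∈ l} = ⊤) (i : ℤ) :
    IsZero ((Koszul.koszul B l).homology i) := by
  rw [← HomologicalComplex.exactAt_iff_isZero_homology,
    HomologicalComplex.exactAt_iff' _ (i - 1) i (i + 1) (by simp) (by simp),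
    ShortComplex.moduleCat_exact_iff]
  intro x hx
  have key := GrothLib.KoszulColon.smul_cycle_mem_range (LinearMap.id : Module.Dual B B) l 1 (by
    rw [show l.map (LinearMap.id : Module.Dual B B) = l from List.map_id l, h]
    exact Submodule.mem_top) (i - 1) i (i + 1) (by omega) rfl
  rw [show GrothLib.KoszulColon.kc (LinearMap.id : Module.Dual B B) l = Koszul.koszul B l from
    congrArg _ (List.map_id l)] at key
  exact (one_smul B x) ▸ key x hx

end GrothLib.SmoothTor3
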