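import Groth.Agent.Lib.SmoothTor3.KoszulFree
import Groth.Agent.Lib.SeqKinds.Basic
import Groth.Agent.Lib.RegImm12.ConormalInter
import Mathlib.RingTheory.TensorProduct.Quotient
import Mathlib.RingTheory.Localization.BaseChange
import Mathlib.LinearAlgebra.ExteriorPower.Basis
import Mathlib.Algebra.Module.FinitePresentation

/-!
# The exterior powers of the excess conormal module, locally
-/

set_option autoImplicit false
set_option linter.style.haveILetI false
universe u

open TensorProduct

namespace GrothLib.SmoothTor3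

section Ideal

variable {B : Type u} [CommRing B]

/-- A Koszul regular sequence gives a free reduction of its ideal modulo any ideal containing it. -/
theorem nonempty_tensor_ideal (f : List B) (hf : LCI.IsKoszulRegularSeq B f) (I K : Ideal B)
    (hI : Ideal.span {a | a ∈ f} = I) (hIK : I ≤ K) :
    Nonempty ((B ⧸ K) ⊗[B] ↥I ≃ₗ[B] (Fin f.length → B ⧸ K)) := by
  classical
  have hrange : Ideal.span (Set.range f.get) = I := by rw [← hI, Set.range_list_get]
  let π : (Fin f.length → B) →ₗ[B] ↥I :=
    LinearMap.codRestrict I (Fintype.linearCombination B f.get) fun a => by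
      rw [Fintype.linearCombination_apply]
      exact Submodule.sum_mem _ fun i _ => I.smul_mem _ (hrange ▸ Ideal.subset_span ⟨i, rfl⟩)
  have hπ : Function.Surjective π := fun x => by
    have hx : (x : B) ∈ Ideal.span (Set.range f.get) := hrange.symm ▸ x.2
    obtain ⟨a, ha⟩ := (Ideal.mem_span_range_iff_exists_fun).1 hx
    exact ⟨a, Subtype.ext ((Fintype.linearCombination_apply B f.get a).trans ha)⟩
  have hker : ∀ a : Fin f.length → B, π a = 0 → ∀ i, a i ∈ K := fun a ha i => by
    refine hIK (hrange ▸ GrothLib.RegImm12.mem_span_of_h1 (GrothLib.SeqKinds.isH1Regular_of_isKoszulRegularSeq f hf) ?_ i)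
    have := congrArg Subtype.val ha
    exact (Fintype.linearCombination_apply B f.get a).symm.trans this
  let T := π.lTensor (B ⧸ K)
  let e := TensorProduct.piScalarRight B B (B ⧸ K) (Fin f.length)
  have hinj : Function.Injective T := by
    rw [← LinearMap.ker_eq_bot, LinearMap.ker_eq_bot']
    intro z hz
    have hex : Function.Exact (LinearMap.ker π).subtype π := LinearMap.exact_subtype_ker_map π
    obtain ⟨w, rfl⟩ := ((lTensor_exact (B ⧸ K) hex hπ) z).1 hz
    refine e.injective ?_
    rw [map_zero]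
    induction w using TensorProduct.induction_on with
    | zero => rw [map_zero, map_zero]
    | tmul q a =>
      funext i
      rw [LinearMap.lTensor_tmul, TensorProduct.piScalarRight_apply, TensorProduct.piScalarRightHom_tmul]
      obtain ⟨b, rfl⟩ := Ideal.Quotient.mk_surjective q
      show (a : Fin f.length → B) i • Ideal.Quotient.mk K b = 0
      exact Ideal.Quotient.eq_zero_iff_mem.2 (K.mul_mem_right _ (hker _ a.2 i))
    | add x y hx hy => rw [map_add, map_add, hx (by
        exact ((lTensor_exact (B ⧸ K) hex hπ) _).2 ⟨x, rfl⟩), hy (by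
        exact ((lTensor_exact (B ⧸ K) hex hπ) _).2 ⟨y, rfl⟩), add_zero]
  exact ⟨(LinearEquiv.ofBijective T ⟨hinj, LinearMap.lTensor_surjective _ hπ⟩).symm.trans e⟩

/-- The kernel of a surjection between finite free modules over a local quotient ring is free. -/
theorem nonempty_ker [IsLocalRing B] (K : Ideal B) (hK : K ≤ IsLocalRing.maximalIdeal B)
    {ι : Type} [Fintype ι] {c : ℕ} (π : (ι → B ⧸ K) →ₗ[B] (Fin c → B ⧸ K)) (hπ : Function.Surjective π) :
    Nonempty (↥(LinearMap.ker π) ≃ₗ[B] (Fin (Fintype.card ι - c) → B ⧸ K)) := by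
  classical
  let κ := IsLocalRing.ResidueField B
  have hkill : ∀ y : ι → B ⧸ K, ∀ a ∈ K, a • y = 0 := fun y a ha => funext fun t => by
    obtain ⟨d, hd⟩ := Ideal.Quotient.mk_surjective (y t)
    rw [Pi.smul_apply, ← hd, Algebra.smul_def, Ideal.Quotient.algebraMap_eq, ← map_mul]
    exact Ideal.Quotient.eq_zero_iff_mem.2 (K.mul_mem_right d ha)
  choose pre hpre using fun t : Fin c => hπ (Pi.single t 1)
  let s : (Fin c → B ⧸ K) →ₗ[B] (ι → B ⧸ K) :=
    ∑ t, (Submodule.liftQ K (LinearMap.toSpanSingleton B (ι → B ⧸ K) (pre t)) fun a ha => hkill _ a ha).comp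
      (LinearMap.proj t)
  have hs : ∀ w, π (s w) = w := fun w => by
    have h1 : ∀ t, π ((Submodule.liftQ K (LinearMap.toSpanSingleton B (ι → B ⧸ K) (pre t)) fun a ha => hkill _ a ha) (w t)) =
        Pi.single t (w t) := fun t => by
      obtain ⟨b, hb⟩ := Ideal.Quotient.mk_surjective (w t)
      rw [← hb]
      show π (b • pre t) = _
      rw [map_smul, hpre, ← Pi.single_smul, Algebra.smul_def, mul_one]
      rfl
    simp only [s, LinearMap.sum_apply, LinearMap.comp_apply, LinearMap.proj_apply, map_sum, h1]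
    exact Finset.univ_sum_single w
  let r : (ι → B ⧸ K) →ₗ[B] ↥(LinearMap.ker π) :=
    LinearMap.codRestrict _ (LinearMap.id - s.comp π) fun x => by
      simp [LinearMap.mem_ker, hs]
  have hri : r.comp (LinearMap.ker π).subtype = LinearMap.id := LinearMap.ext fun x => Subtype.ext (by
    simp [r, LinearMap.mem_ker.1 x.2])
  obtain ⟨e⟩ := nonempty_free_of_retract K (LinearMap.ker π).subtype r hri
  haveI : Module.Finite B ↥(LinearMap.ker π) :=
    Module.Finite.of_surjective r fun x => ⟨x, LinearMap.congr_fun hri x⟩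
  let E : (ι → B ⧸ K) ≃ₗ[B] ↥(LinearMap.ker π) × (Fin c → B ⧸ K) :=
    LinearEquiv.ofBijective (r.prod π) ⟨(injective_iff_map_eq_zero (r.prod π)).2 fun x hx => by
      rw [Prod.ext_iff] at hx
      have h1 := congrArg Subtype.val hx.1
      have h2 : π x = 0 := hx.2
      simpa [r, h2] using h1, fun y => ⟨(y.1 : ι → B ⧸ K) + s y.2, Prod.ext (Subtype.ext (by
        simp [r, LinearMap.mem_ker.1 y.1.2, hs])) (by simp [LinearMap.mem_ker.1 y.1.2, hs])⟩⟩
  have h := ((TensorProduct.AlgebraTensorModule.congr (LinearEquiv.refl κ κ) E).trans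
    (TensorProduct.prodRight B κ κ _ _)).finrank_eq
  rw [Module.finrank_prod, finrank_tensor_pi, finrank_tensor_pi] at h
  simp only [Finset.sum_const, Finset.card_univ, Fintype.card_fin, smul_eq_mul, finrank_tensor_quotient hK,
    mul_one] at h
  exact ⟨e.trans (LinearEquiv.funCongrLeft B _ (finCongr (by
    change Fintype.card ι = Module.finrank (IsLocalRing.ResidueField B)
      (IsLocalRing.ResidueField B ⊗[B] ↥(LinearMap.ker π)) + c at h
    omega)).symm)⟩

end Ideal

section Loc

variable {A : Type u} [CommRing A] (p : Ideal A) [p.IsPrime]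

/-- The reduced conormal module of a locally regularly generated ideal is locally free. -/
theorem nonempty_loc_tensor (J I : Ideal A) (f : List (Localization.AtPrime p))
    (hf : LCI.IsKoszulRegularSeq (Localization.AtPrime p) f)
    (hspan : Ideal.span {a | a ∈ f} = I.map (algebraMap A (Localization.AtPrime p))) (hle : I ≤ J) :
    Nonempty (Localization.AtPrime p ⊗[A] ((A ⧸ J) ⊗[A] ↥I) ≃ₗ[Localization.AtPrime p]
      (Fin f.length → Localization.AtPrime p ⧸ J.map (algebraMap A (Localization.AtPrime p)))) := by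
  let B := Localization.AtPrime p
  let g : B ⊗[A] ↥I →ₗ[B] B := LinearMap.liftBaseChange B ((Algebra.linearMap A B).comp I.subtype)
  have hg : g.restrictScalars A = (TensorProduct.rid A B).toLinearMap ∘ₗ I.subtype.lTensor B := by
    refine TensorProduct.ext' fun b x => ?_
    show b • algebraMap A B x = (x : A) • b
    rw [Algebra.smul_def (x : A) b, smul_eq_mul, mul_comm]
  have hinj : Function.Injective g := by
    have : Function.Injective ((TensorProduct.rid A B).toLinearMap ∘ₗ I.subtype.lTensor B) :=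
      (TensorProduct.rid A B).injective.comp
        (Module.Flat.lTensor_preserves_injective_linearMap (M := B) _ I.injective_subtype)
    rw [← hg] at this
    exact this
  have hrg : LinearMap.range g = I.map (algebraMap A B) := by
    show LinearMap.range (LinearMap.liftBaseChange B _) = _
    rw [LinearMap.range_liftBaseChange, Ideal.map, Ideal.span]
    refine congrArg _ (Set.ext fun b => ⟨?_, ?_⟩)
    · rintro ⟨x, rfl⟩
      exact ⟨x, x.2, rfl⟩
    · rintro ⟨x, hx, rfl⟩
      exact ⟨⟨x, hx⟩, rfl⟩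
  let e1 : B ⊗[A] ↥I ≃ₗ[B] ↥(I.map (algebraMap A B)) :=
    (LinearEquiv.ofInjective g hinj).trans (LinearEquiv.ofEq _ _ hrg)
  let e2 : B ⊗[A] (A ⧸ J) ≃ₗ[B] (B ⧸ J.map (algebraMap A B)) :=
    (Algebra.TensorProduct.quotIdealMapEquivTensorQuot B J).toLinearEquiv.symm
  obtain ⟨e3⟩ := nonempty_tensor_ideal f hf _ (J.map (algebraMap A B)) hspan (Ideal.map_mono hle)
  exact ⟨(TensorProduct.AlgebraTensorModule.distribBaseChange A B (A ⧸ J) ↥I).trans
    ((TensorProduct.congr e2 e1).trans e3)⟩

/-- The kernel of the base changed sum map is locally free of the expected rank. -/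
theorem nonempty_loc_ker (J₁ J₂ J₃ J : Ideal A) (hJ : J = J₁ ⊔ J₂ ⊔ J₃) (hJp : J ≤ p)
    (S : (↥J₁ × (↥J₂ × ↥J₃)) →ₗ[A] ↥J) (hS : ∀ x, (S x : A) = (x.1 : A) + (x.2.1 : A) + (x.2.2 : A))
    (f₁ f₂ f₃ g : List (Localization.AtPrime p))
    (h₁ : LCI.IsKoszulRegularSeq (Localization.AtPrime p) f₁)
    (s₁ : Ideal.span {a | a ∈ f₁} = J₁.map (algebraMap A (Localization.AtPrime p)))
    (h₂ : LCI.IsKoszulRegularSeq (Localization.AtPrime p) f₂)
    (s₂ : Ideal.span {a | a ∈ f₂} = J₂.map (algebraMap A (Localization.AtPrime p)))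
    (h₃ : LCI.IsKoszulRegularSeq (Localization.AtPrime p) f₃)
    (s₃ : Ideal.span {a | a ∈ f₃} = J₃.map (algebraMap A (Localization.AtPrime p)))
    (hg : LCI.IsKoszulRegularSeq (Localization.AtPrime p) g)
    (sg : Ideal.span {a | a ∈ g} = J.map (algebraMap A (Localization.AtPrime p))) :
    g.length ≤ (f₁ ++ (f₂ ++ f₃)).length ∧
    Nonempty (Localization.AtPrime p ⊗[A] ↥(LinearMap.ker (S.baseChange (A ⧸ J))) ≃ₗ[Localization.AtPrime p]
      (Fin ((f₁ ++ (f₂ ++ f₃)).length - g.length) →
        Localization.AtPrime p ⧸ J.map (algebraMap A (Localization.AtPrime p)))) := by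
  classical
  let B := Localization.AtPrime p
  let R := A ⧸ J
  let Q := B ⧸ J.map (algebraMap A B)
  have hSs : Function.Surjective S := fun x => by
    obtain ⟨y, hy, z, hz, hyz⟩ := Submodule.mem_sup.1 (hJ ▸ x.2 : (x : A) ∈ J₁ ⊔ J₂ ⊔ J₃)
    obtain ⟨a, ha, b, hb, rfl⟩ := Submodule.mem_sup.1 hy
    exact ⟨(⟨a, ha⟩, (⟨b, hb⟩, ⟨z, hz⟩)), Subtype.ext ((hS _).trans hyz)⟩
  let Sb : R ⊗[A] (↥J₁ × (↥J₂ × ↥J₃)) →ₗ[A] R ⊗[A] ↥J := (S.baseChange R).restrictScalars A
  let incl : ↥(LinearMap.ker (S.baseChange R)) →ₗ[A] R ⊗[A] (↥J₁ × (↥J₂ × ↥J₃)) :=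
    (LinearMap.ker (S.baseChange R)).subtype.restrictScalars A
  have hex : Function.Exact incl Sb := fun x =>
    ⟨fun hx => ⟨⟨x, LinearMap.mem_ker.2 hx⟩, rfl⟩, fun ⟨y, hy⟩ => hy ▸ LinearMap.mem_ker.1 y.2⟩
  have hSb : Function.Surjective Sb := LinearMap.lTensor_surjective R hSs
  obtain ⟨e₁⟩ := nonempty_loc_tensor p J J₁ f₁ h₁ s₁ (hJ ▸ le_sup_left.trans le_sup_left)
  obtain ⟨e₂⟩ := nonempty_loc_tensor p J J₂ f₂ h₂ s₂ (hJ ▸ le_sup_right.trans le_sup_left)
  obtain ⟨e₃⟩ := nonempty_loc_tensor p J J₃ f₃ h₃ s₃ (hJ ▸ le_sup_right)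
  obtain ⟨e₀⟩ := nonempty_loc_tensor p J J g hg sg le_rfl
  let dA : R ⊗[A] (↥J₁ × (↥J₂ × ↥J₃)) ≃ₗ[A] (R ⊗[A] ↥J₁) × ((R ⊗[A] ↥J₂) × (R ⊗[A] ↥J₃)) :=
    (TensorProduct.prodRight A A R _ _).trans ((LinearEquiv.refl A _).prodCongr (TensorProduct.prodRight A A R _ _))
  let ι := Fin f₁.length ⊕ (Fin f₂.length ⊕ Fin f₃.length)
  let mid : B ⊗[A] (R ⊗[A] (↥J₁ × (↥J₂ × ↥J₃))) ≃ₗ[B] (ι → Q) :=
    (dA.baseChange A B _ _).trans ((TensorProduct.prodRight A B B _ _).trans
      ((e₁.prodCongr ((TensorProduct.prodRight A B B _ _).trans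
        ((e₂.prodCongr e₃).trans (LinearEquiv.sumArrowLequivProdArrow (Fin f₂.length) (Fin f₃.length) B Q).symm))).trans
        (LinearEquiv.sumArrowLequivProdArrow (Fin f₁.length) (Fin f₂.length ⊕ Fin f₃.length) B Q).symm))
  let π : (ι → Q) →ₗ[B] (Fin g.length → Q) :=
    e₀.toLinearMap ∘ₗ Sb.baseChange B ∘ₗ mid.symm.toLinearMap
  have hπ : Function.Surjective π :=
    e₀.surjective.comp ((LinearMap.lTensor_surjective B hSb).comp mid.symm.surjective)
  have hK : J.map (algebraMap A B) ≤ IsLocalRing.maximalIdeal B :=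
    (Localization.AtPrime.map_eq_maximalIdeal (I := p)) ▸ Ideal.map_mono hJp
  have hcard : Fintype.card ι = (f₁ ++ (f₂ ++ f₃)).length := by simp [ι]
  refine ⟨?_, ?_⟩
  · have h := ((LinearMap.lTensor_surjective (IsLocalRing.ResidueField B) hπ))
    have h2 := LinearMap.finrank_le_finrank_of_surjective
      (f := π.baseChange (IsLocalRing.ResidueField B)) h
    have hQ : Module.finrank (IsLocalRing.ResidueField B) (IsLocalRing.ResidueField B ⊗[B] Q) = 1 :=
      finrank_tensor_quotient hK
    simp only [finrank_tensor_pi, Finset.sum_const, Finset.card_univ, Fintype.card_fin, smul_eq_mul,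
      hQ, mul_one] at h2
    omega
  · obtain ⟨e⟩ := nonempty_ker (J.map (algebraMap A B)) hK π hπ
    let ib := incl.baseChange B
    have hib : Function.Injective ib :=
      Module.Flat.lTensor_preserves_injective_linearMap (M := B) _ (LinearMap.ker (S.baseChange R)).injective_subtype
    have hexB : Function.Exact ib (Sb.baseChange B) := by
      have h := @Module.Flat.lTensor_exact A B _ _ _ _ (↥(LinearMap.ker (S.baseChange R))) _ _ _ _ _ _ _ _ incl Sb hex
      exact h
    let m : B ⊗[A] ↥(LinearMap.ker (S.baseChange R)) →ₗ[B] ↥(LinearMap.ker π) :=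
      LinearMap.codRestrict _ (mid.toLinearMap ∘ₗ ib) fun x => by
        show e₀ (Sb.baseChange B (mid.symm (mid (ib x)))) = 0
        rw [LinearEquiv.symm_apply_apply, hexB.apply_apply_eq_zero, map_zero]
    have hm : Function.Bijective m := by
      refine ⟨fun x y h => hib (mid.injective (congrArg Subtype.val h)), fun z => ?_⟩
      have hz : Sb.baseChange B (mid.symm z) = 0 := e₀.map_eq_zero_iff.1 z.2
      obtain ⟨x, hx⟩ := (hexB _).1 hz
      exact ⟨x, Subtype.ext ((congrArg mid hx).trans (mid.apply_symm_apply _))⟩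
    exact ⟨(LinearEquiv.ofBijective m hm).trans (e.trans (LinearEquiv.funCongrLeft B _ (finCongr (by rw [hcard])).symm))⟩

end Loc

section Exterior

variable {A : Type u} [CommRing A]

/-- Mutually inverse up to a scalar in `T` maps localize to bijections. -/
theorem bijective_map_of_comp_eq_smul (T : Submonoid A) {X Y : Type u} [AddCommMonoid X] [Module A X]
    [AddCommMonoid Y] [Module A Y] (Φ : X →ₗ[A] Y) (Ψ : Y →ₗ[A] X) (s : T)
    (h1 : ∀ x, Ψ (Φ x) = (s : A) • x) (h2 : ∀ y, Φ (Ψ y) = (s : A) • y) :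
    Function.Bijective (IsLocalizedModule.map T (LocalizedModule.mkLinearMap T X) (LocalizedModule.mkLinearMap T Y) Φ) := by
  let fx := LocalizedModule.mkLinearMap T X
  let fy := LocalizedModule.mkLinearMap T Y
  let F := IsLocalizedModule.map T fx fy Φ
  let G := IsLocalizedModule.map T fy fx Ψ
  have hG : ∀ z, G (F z) = (s : A) • z := by
    have : G ∘ₗ F = (s : A) • LinearMap.id := by
      refine IsLocalizedModule.linearMap_ext T fx fx (LinearMap.ext fun x => ?_)
      show G (F (fx x)) = (s : A) • fx x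
      rw [IsLocalizedModule.map_apply, IsLocalizedModule.map_apply, h1, map_smul]
    exact fun z => LinearMap.congr_fun this z
  have hF : ∀ z, F (G z) = (s : A) • z := by
    have : F ∘ₗ G = (s : A) • LinearMap.id := by
      refine IsLocalizedModule.linearMap_ext T fy fy (LinearMap.ext fun x => ?_)
      show F (G (fy x)) = (s : A) • fy x
      rw [IsLocalizedModule.map_apply, IsLocalizedModule.map_apply, h2, map_smul]
    exact fun z => LinearMap.congr_fun this z
  refine ⟨fun a b h => IsLocalizedModule.smul_injective fx s (?_ : (s : A) • a = (s : A) • b), fun y => ?_⟩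
  · rw [← hG a, ← hG b]
    exact congrArg G h
  · obtain ⟨v, hv⟩ := ((Module.End.isUnit_iff _).1 (IsLocalizedModule.map_units fy s)).2 y
    refine ⟨G v, (hF v).trans hv⟩

/-- Two maps out of a finite module that agree after localization agree up to a scalar in `T`. -/
theorem exists_smul_eq_of_localized_eq (T : Submonoid A) {X Y : Type u} [AddCommGroup X] [Module A X]
    [Module.Finite A X] [AddCommGroup Y] [Module A Y] (a b : X →ₗ[A] Y)
    (h : ∀ x, LocalizedModule.mkLinearMap T Y (a x) = LocalizedModule.mkLinearMap T Y (b x)) :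
    ∃ u : T, ∀ x, (u : A) • a x = (u : A) • b x := by
  classical
  obtain ⟨G, hG⟩ := (Module.Finite.fg_top (R := A) (M := X))
  choose c hc using fun x : X => (IsLocalizedModule.eq_iff_exists T (LocalizedModule.mkLinearMap T Y)).1 (h x)
  refine ⟨∏ x ∈ G, c x, fun x => ?_⟩
  have : Submodule.span A (G : Set X) ≤
      LinearMap.eqLocus (((∏ x ∈ G, c x : T) : A) • a) (((∏ x ∈ G, c x : T) : A) • b) := by
    rw [Submodule.span_le]
    intro y hy
    show ((∏ x ∈ G, c x : T) : A) • a y = ((∏ x ∈ G, c x : T) : A) • b y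
    rw [← Finset.prod_erase_mul G c hy, Submonoid.coe_mul, mul_smul, mul_smul]
    exact congrArg _ (hc y)
  exact this (hG ▸ Submodule.mem_top)

/-- The localized exterior powers of a locally free module. -/
theorem nonempty_loc_extPow [IsNoetherianRing A] (p : Ideal A) [p.IsPrime] (J : Ideal A) {M : Type u} [AddCommGroup M] [Module A M]
    [Module (A ⧸ J) M] [IsScalarTower A (A ⧸ J) M] [Module.Finite (A ⧸ J) M] {r : ℕ}
    (eM : Localization.AtPrime p ⊗[A] M ≃ₗ[Localization.AtPrime p]
      (Fin r → Localization.AtPrime p ⧸ J.map (algebraMap A (Localization.AtPrime p)))) (q : ℕ) :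
    Nonempty (LocalizedModule p.primeCompl (RestrictScalars A (A ⧸ J) ↥(⋀[A ⧸ J]^q M)) ≃ₗ[A]
      (Fin (r.choose q) → Localization.AtPrime p ⧸ J.map (algebraMap A (Localization.AtPrime p)))) := by
  classical
  let B := Localization.AtPrime p
  let R := A ⧸ J
  let T := p.primeCompl
  haveI : Module.Finite A M := Module.Finite.trans R M
  haveI : Module.FinitePresentation A M := Module.finitePresentation_of_finite A M
  haveI : Module.FinitePresentation A (Fin r → R) := Module.finitePresentation_of_finite A _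
  let eQ : ∀ n : ℕ, B ⊗[A] (Fin n → R) ≃ₗ[B] (Fin n → B ⧸ J.map (algebraMap A B)) := fun n =>
    (TensorProduct.piRight A B B (fun _ : Fin n => R)).trans
      (LinearEquiv.piCongrRight fun _ => (Algebra.TensorProduct.quotIdealMapEquivTensorQuot B J).toLinearEquiv.symm)
  let E : LocalizedModule T M ≃ₗ[A] LocalizedModule T (Fin r → R) :=
    ((LocalizedModule.equivTensorProduct T M).restrictScalars A).trans
      (((eM.trans (eQ r).symm).restrictScalars A).trans ((LocalizedModule.equivTensorProduct T (Fin r → R)).symm.restrictScalars A))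
  let fM := LocalizedModule.mkLinearMap T M
  let fF := LocalizedModule.mkLinearMap T (Fin r → R)
  obtain ⟨ψ, t, hψ⟩ := Module.FinitePresentation.exists_lift_of_isLocalizedModule T fF (E.toLinearMap ∘ₗ fM)
  obtain ⟨φ, t', hφ⟩ := Module.FinitePresentation.exists_lift_of_isLocalizedModule T fM (E.symm.toLinearMap ∘ₗ fF)
  have hψ' : ∀ x, fF (ψ x) = (t : A) • E (fM x) := fun x => LinearMap.congr_fun hψ x
  have hφ' : ∀ y, fM (φ y) = (t' : A) • E.symm (fF y) := fun y => LinearMap.congr_fun hφ y
  obtain ⟨u, hu⟩ := exists_smul_eq_of_localized_eq T (φ ∘ₗ ψ) ((t' * t : T) • LinearMap.id) fun x => by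
    show fM (φ (ψ x)) = fM (((t' * t : T) : A) • x)
    rw [hφ', hψ', map_smul, map_smul, LinearEquiv.symm_apply_apply, Submonoid.coe_mul, mul_smul]
  obtain ⟨u', hu'⟩ := exists_smul_eq_of_localized_eq T (ψ ∘ₗ φ) ((t' * t : T) • LinearMap.id) fun y => by
    show fF (ψ (φ y)) = fF (((t' * t : T) : A) • y)
    rw [hψ', hφ', map_smul, map_smul, LinearEquiv.apply_symm_apply, Submonoid.coe_mul, mul_smul, smul_comm]
  let s : T := u * u' * (t' * t)
  have hsurj : Function.Surjective (algebraMap A R) := Ideal.Quotient.mk_surjective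
  let φR : (Fin r → R) →ₗ[R] M := LinearMap.extendScalarsOfSurjective hsurj (((u * u' : T) : A) • φ)
  let ψR : M →ₗ[R] (Fin r → R) := LinearMap.extendScalarsOfSurjective hsurj ψ
  have h1 : φR.comp ψR = algebraMap A R (s : A) • LinearMap.id := LinearMap.ext fun x => by
    show ((u * u' : T) : A) • φ (ψ x) = algebraMap A R (s : A) • x
    have hux : (u : A) • φ (ψ x) = (u : A) • ((t' * t : T) : A) • x := hu x
    rw [algebraMap_smul, Submonoid.coe_mul, mul_comm, mul_smul, hux, smul_smul, smul_smul]
    congr 1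
    simp only [s, Submonoid.coe_mul]
    ring
  have h2 : ψR.comp φR = algebraMap A R (s : A) • LinearMap.id := LinearMap.ext fun y => by
    show ψ (((u * u' : T) : A) • φ y) = algebraMap A R (s : A) • y
    have huy : (u' : A) • ψ (φ y) = (u' : A) • ((t' * t : T) : A) • y := hu' y
    rw [map_smul, algebraMap_smul, Submonoid.coe_mul, mul_smul, huy, smul_smul, smul_smul]
    congr 1
  have hmap : ∀ {N : Type u} [AddCommGroup N] [Module R N] (z : R) (x : ⋀[R]^q N),
      exteriorPower.map q (z • (LinearMap.id : N →ₗ[R] N)) x = z ^ q • x := by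
    intro N _ _ z x
    have : exteriorPower.map q (z • (LinearMap.id : N →ₗ[R] N)) = z ^ q • LinearMap.id := by
      refine exteriorPower.linearMap_ext (AlternatingMap.ext fun m => ?_)
      show exteriorPower.map q (z • LinearMap.id) (exteriorPower.ιMulti R q m) = z ^ q • exteriorPower.ιMulti R q m
      rw [exteriorPower.map_apply_ιMulti]
      show exteriorPower.ιMulti R q (fun i => z • m i) = _
      rw [AlternatingMap.map_smul_univ, Finset.prod_const, Finset.card_univ, Fintype.card_fin]
    rw [this]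
    rfl
  let Φ : RestrictScalars A R ↥(⋀[R]^q M) →ₗ[A] RestrictScalars A R ↥(⋀[R]^q (Fin r → R)) :=
    { toFun := fun x => (RestrictScalars.addEquiv A R _).symm (exteriorPower.map q ψR (RestrictScalars.addEquiv A R _ x))
      map_add' := fun x y => by rw [map_add, map_add, map_add]
      map_smul' := fun a x => by
        rw [RingHom.id_apply, RestrictScalars.addEquiv_map_smul, map_smul]
        rfl }
  let Ψ : RestrictScalars A R ↥(⋀[R]^q (Fin r → R)) →ₗ[A] RestrictScalars A R ↥(⋀[R]^q M) :=
    { toFun := fun x => (RestrictScalars.addEquiv A R _).symm (exteriorPower.map q φR (RestrictScalars.addEquiv A R _ x))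
      map_add' := fun x y => by rw [map_add, map_add, map_add]
      map_smul' := fun a x => by
        rw [RingHom.id_apply, RestrictScalars.addEquiv_map_smul, map_smul]
        rfl }
  have hb := bijective_map_of_comp_eq_smul T Φ Ψ (s ^ q) (fun x => by
    show exteriorPower.map q φR (exteriorPower.map q ψR (RestrictScalars.addEquiv A R _ x)) =
      algebraMap A R ((s ^ q : T) : A) • RestrictScalars.addEquiv A R _ x
    rw [← LinearMap.comp_apply, ← exteriorPower.map_comp, h1, hmap, SubmonoidClass.coe_pow, map_pow]) (fun y => by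
    show exteriorPower.map q ψR (exteriorPower.map q φR (RestrictScalars.addEquiv A R _ y)) =
      algebraMap A R ((s ^ q : T) : A) • RestrictScalars.addEquiv A R _ y
    rw [← LinearMap.comp_apply, ← exteriorPower.map_comp, h2, hmap, SubmonoidClass.coe_pow, map_pow])
  let bR := (Pi.basisFun R (Fin r)).exteriorPower q
  haveI : Fintype (Set.powersetCard (Fin r) q) := Fintype.ofFinite _
  have hcard : Fintype.card (Set.powersetCard (Fin r) q) = r.choose q := by
    rw [← Nat.card_eq_fintype_card, Set.powersetCard.card, Nat.card_eq_fintype_card, Fintype.card_fin]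
  let eR : ↥(⋀[R]^q (Fin r → R)) ≃ₗ[R] (Fin (r.choose q) → R) :=
    bR.equivFun.trans (LinearEquiv.funCongrLeft R R ((Fintype.equivFinOfCardEq hcard).symm))
  let eA : RestrictScalars A R ↥(⋀[R]^q (Fin r → R)) ≃ₗ[A] (Fin (r.choose q) → R) :=
    ((RestrictScalars.addEquiv A R _).trans eR.toAddEquiv).toLinearEquiv fun a x => by
      show eR (RestrictScalars.addEquiv A R _ (a • x)) = a • eR (RestrictScalars.addEquiv A R _ x)
      rw [RestrictScalars.addEquiv_map_smul, map_smul, algebraMap_smul]
  exact ⟨(LinearEquiv.ofBijective _ hb).trans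
    (((LocalizedModule.equivTensorProduct T _).restrictScalars A).trans
      (((eA.baseChange A B _ _).trans (eQ (r.choose q))).restrictScalars A))⟩

end Exterior

end GrothLib.SmoothTor3
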